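import Mathlib.RingTheory.GradedAlgebra.HomogeneousLocalization
import Mathlib.Algebra.BigOperators.Fin

/-!
Generation of the degree-zero localisation away from a monomial in degree-one elements.
-/

set_option autoImplicit false
universe u v

namespace AwayMonomialLib

open HomogeneousLocalization

variable {R : Type u} {A : Type v} [CommRing R] [CommRing A] [Algebra R A]
  (𝒜 : ℕ → Submodule R A) [GradedAlgebra 𝒜]

lemma mk_eq (x a : A) (m : ℕ) (h : x ^ m ∈ Submonoid.powers x) :
    Localization.mk a ⟨x ^ m, h⟩ =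
      algebraMap A (Localization.Away x) a *
        (Localization.mk 1 ⟨x, Submonoid.mem_powers x⟩ : Localization.Away x) ^ m := by
  rw [Localization.mk_pow, ← Algebra.smul_def, Localization.smul_mk, smul_eq_mul, one_pow, mul_one]
  rfl

theorem main {n : ℕ} (σ : Fin n → A) (hσ : ∀ i, σ i ∈ 𝒜 1) {s : ℕ} (hs : 0 < s)
    (hgen : ∀ i, Algebra.adjoin (𝒜 0)
      {z : HomogeneousLocalization.Away 𝒜 (σ i) |
        ∃ f ∈ 𝒜 s, z.val = Localization.mk f ⟨σ i ^ s, Submonoid.pow_mem _ (Submonoid.mem_powers (σ i)) s⟩} = ⊤)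
    (K : Fin n → ℕ) (hK : ∑ i, K i = s) :
    Algebra.adjoin (𝒜 0)
      {z : HomogeneousLocalization.Away 𝒜 (∏ i, σ i ^ K i) |
        ∃ f ∈ 𝒜 s, z.val = Localization.mk f ⟨∏ i, σ i ^ K i, Submonoid.mem_powers _⟩} = ⊤ := by
  classical
  obtain ⟨i, hi⟩ : ∃ i, 0 < K i := by
    by_contra h
    push Not at h
    exact hs.ne' (hK.symm.trans (Finset.sum_eq_zero fun j _ => Nat.le_zero.mp (h j)))
  set x := ∏ i, σ i ^ K i with hxdef
  set L := Localization.Away x
  let u : L := Localization.mk 1 ⟨x, Submonoid.mem_powers x⟩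
  let K' : Fin n → ℕ := Function.update K i (K i - 1)
  let g : A := ∏ l, σ l ^ K' l
  have hxg : x = σ i * g := by
    simp only [hxdef, g]
    rw [← Finset.mul_prod_erase _ _ (Finset.mem_univ i),
      ← Finset.mul_prod_erase _ (fun l => σ l ^ K' l) (Finset.mem_univ i), ← mul_assoc]
    congr 1
    · simp only [K', Function.update_self]
      rw [← pow_succ', Nat.sub_add_cancel hi]
    · refine Finset.prod_congr rfl fun l hl => ?_
      simp [K', Function.update_of_ne (Finset.ne_of_mem_erase hl)]
  have hK' : ∑ l, K' l = s - 1 := by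
    have h1 := Finset.add_sum_erase Finset.univ K (Finset.mem_univ i)
    have h2 := Finset.add_sum_erase Finset.univ K' (Finset.mem_univ i)
    have h3 : ∑ l ∈ Finset.univ.erase i, K' l = ∑ l ∈ Finset.univ.erase i, K l :=
      Finset.sum_congr rfl fun l hl => by
        simp [K', Function.update_of_ne (Finset.ne_of_mem_erase hl)]
    have h4 : K' i = K i - 1 := by simp [K']
    omega
  have hx : x ∈ 𝒜 s := by
    have := SetLike.prod_pow_mem_graded 𝒜 (fun _ : Fin n => 1) σ K (F := Finset.univ)
      (fun l _ => hσ l)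
    simpa [hK] using this
  have hxu : algebraMap A L x * u = 1 := by
    rw [← Algebra.smul_def, Localization.smul_mk, smul_eq_mul, mul_one]
    exact Localization.mk_self ⟨x, Submonoid.mem_powers x⟩
  set S := Algebra.adjoin (𝒜 0)
      {z : HomogeneousLocalization.Away 𝒜 x |
        ∃ f ∈ 𝒜 s, z.val = Localization.mk f ⟨x, Submonoid.mem_powers _⟩}
  let valₐ : HomogeneousLocalization.Away 𝒜 x →ₐ[𝒜 0] L :=
    IsScalarTower.toAlgHom (𝒜 0) _ _
  set S' := S.map valₐ
  have hgenS : ∀ f ∈ 𝒜 s, algebraMap A L f * u ∈ S' := by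
    intro f hf
    refine ⟨HomogeneousLocalization.Away.mk 𝒜 hx 1 f (by simpa using hf),
      Algebra.subset_adjoin ⟨f, hf, ?_⟩, ?_⟩
    · simp only [HomogeneousLocalization.Away.val_mk, pow_one]
    · show (HomogeneousLocalization.Away.mk 𝒜 hx 1 f (by simpa using hf)).val = _
      rw [HomogeneousLocalization.Away.val_mk, mk_eq x f 1]
      simp [u, L]
  have hpow : ∀ l, σ l ^ s ∈ 𝒜 s := fun l => by
    simpa using SetLike.pow_mem_graded s (hσ l)
  have hgu : algebraMap A L (σ i) * (algebraMap A L g * u) = 1 := by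
    rw [← mul_assoc, ← map_mul, ← hxg, hxu]
  let lift : Localization.Away (σ i) →+* L := Localization.awayLift (algebraMap A L) _
    (isUnit_iff_exists_inv.mpr ⟨_, hgu⟩)
  let φ : HomogeneousLocalization.Away 𝒜 (σ i) →ₐ[𝒜 0] L :=
    { lift.comp (algebraMap _ (Localization.Away (σ i))) with
      commutes' := fun a => by
        show lift (HomogeneousLocalization.fromZeroRingHom 𝒜 _ a).val = _
        exact IsLocalization.lift_eq _ _ }
  have hφ : ∀ (w : HomogeneousLocalization.Away 𝒜 (σ i)) (f : A) (m : ℕ)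
      (h : σ i ^ m ∈ Submonoid.powers (σ i)), w.val = Localization.mk f ⟨σ i ^ m, h⟩ →
      φ w = algebraMap A L f * (algebraMap A L g * u) ^ m := by
    intro w f m h hw
    show lift w.val = _
    rw [hw]
    exact Localization.awayLift_mk (hv := hgu) ..
  have hrange : ∀ w, φ w ∈ S' := by
    suffices h : (⊤ : Subalgebra (𝒜 0) _) ≤ S'.comap φ from fun w => h trivial
    rw [← hgen i, Algebra.adjoin_le_iff]
    rintro w ⟨f, hf, hw⟩
    show φ w ∈ S'
    rw [hφ w f s _ hw]
    have : algebraMap A L f * (algebraMap A L g * u) ^ s =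
        (algebraMap A L f * u) * ∏ l, (algebraMap A L (σ l ^ s) * u) ^ K' l := by
      simp only [mul_pow, Finset.prod_mul_distrib, Finset.prod_pow_eq_pow_sum, hK', g, map_prod,
        map_pow, ← Finset.prod_pow, ← pow_mul]
      have hu : u ^ s = u * u ^ (s - 1) := by rw [← pow_succ', Nat.sub_add_cancel hs]
      rw [hu]
      simp only [mul_comm s]
      ring
    rw [this]
    exact mul_mem (hgenS f hf) (prod_mem fun l _ => pow_mem (hgenS _ (hpow l)) _)
  rw [eq_top_iff]
  intro z _
  obtain ⟨m, a, ha, rfl⟩ := HomogeneousLocalization.Away.mk_surjective 𝒜 hx z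
  have hmem : algebraMap A L a * u ^ m ∈ S' := by
    have h1 := hrange (HomogeneousLocalization.Away.mk 𝒜 (hσ i) (m • s) a (by simpa using ha))
    rw [hφ _ a (m • s) ⟨_, rfl⟩ (HomogeneousLocalization.Away.val_mk ..)] at h1
    have h2 := mul_mem h1 (pow_mem (hgenS _ (hpow i)) m)
    have h3 : algebraMap A L a * u ^ m = algebraMap A L a * (algebraMap A L g * u) ^ (m • s) *
        (algebraMap A L (σ i ^ s) * u) ^ m := by
      have h4 : (algebraMap A L (σ i) * (algebraMap A L g * u)) ^ (m * s) = 1 := by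
        rw [hgu, one_pow]
      calc _ = algebraMap A L a * u ^ m *
            (algebraMap A L (σ i) * (algebraMap A L g * u)) ^ (m * s) := by rw [h4, mul_one]
        _ = _ := by simp only [smul_eq_mul, map_pow, mul_pow, ← pow_mul, mul_comm s m]; ring
    exact h3 ▸ h2
  obtain ⟨y, hy, e⟩ := hmem
  have : y = HomogeneousLocalization.Away.mk 𝒜 hx m a ha := by
    apply HomogeneousLocalization.val_injective
    rw [HomogeneousLocalization.Away.val_mk, mk_eq]
    exact e
  exact this ▸ hy

end AwayMonomialLib
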